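import Mathlib
import Cfsg.Agent.H376.CocAlt_m3
import Cfsg.Agent.H376.SpEmb
import Cfsg.Agent.H376.WordEmb
import Cfsg.Agent.H72.AdjPSL
import Cfsg.Agent.H72.Task106
import Cfsg.Agent.H621.TwoElt.Orth
import Cfsg.Agent.H708.RFOmega3
import Cfsg.Agent.H72.AdjPSUW
import Cfsg.Agent.H152.SUClass
import Cfsg.Agent.H168.ExcCoc
import Cfsg.Agent.Prune
set_option linter.all false
prune_inst 0x7f00000000000000000000000000000000000000000000000000000000000000000000000000000000000000000000000000000000000000000000000000000000000000000000000000000000000000003fffffffffffffffffffffffffffbeffbdffffffff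
open scoped Cfsg.Agent.FastGrp

-- part: H346/LNDef
section
/-!
# Definitions for S3457 (`PSL(n, 2)` is recognized by its element orders) (helper346)
-/

set_option autoImplicit false

namespace Cfsg.Agent.H346.LN

/-- `S` receives a homomorphism `f` from `SL_k(E)`, `|E| = u ^ a`, `u` odd, whose kernel has exponent at most two, `k`
large compared with `c`. -/
def Big (c : ℕ) (S : Type*) [Group S] : Prop :=
  ∃ (E : Type) (_ : Field E) (_ : Fintype E) (u a k : ℕ), Fintype.card E = u ^ a ∧ Odd u ∧ 1 < u ∧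
    ((a = 1 ∧ 4 * c ≤ 3 * k + 12) ∨ (a = 2 ∧ c ≤ k + 3)) ∧
    ∃ f : Matrix.SpecialLinearGroup (Fin k) E →* S, ∀ x, f x = 1 → x ^ 2 = 1

end Cfsg.Agent.H346.LN
end

-- part: H621/LN/Lin
section
/-!
# `Big` for `PSL_l(u)`, `PSp_{2l}(u)`, `u` odd, with a large coclique (helper621, for S3457)
-/

set_option autoImplicit false

namespace Cfsg.Agent.H621.LN

open Matrix Cfsg Cfsg.Agent.H346.LN Cfsg.Agent.H376.Coc

theorem Big.congr {c : ℕ} {S T : Type*} [Group S] [Group T] (e : S ≃* T) (h : Big c S) : Big c T := by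
  obtain ⟨E, h1, h2, u, a, k, h3, h4, h5, h6, f, hf⟩ := h
  refine ⟨E, h1, h2, u, a, k, h3, h4, h5, h6, e.toMonoidHom.comp f, fun x hx => hf x ?_⟩
  exact (map_eq_one_iff e e.injective).1 hx

variable {F : Type} [Field F] [Fintype F]

theorem one_lt_card : 1 < Fintype.card F := Fintype.one_lt_card

/-- cocliques of `PSL₂(q)` -/
theorem coc_psl_two (hF : Odd (Fintype.card F)) {C : Finset ℕ}
    (hC : IsCoc (Matrix.ProjectiveSpecialLinearGroup (Fin 2) F) C) (h3 : ∀ p ∈ C, 3 < p) : C.card ≤ 3 := by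
  classical
  obtain ⟨p, hp, -, hqp⟩ := Cfsg.Agent.H72.AdjCoc.prime_dvd_card F
  rw [Nat.card_eq_fintype_card] at hqp
  have hq1 := Fintype.one_lt_card (α := F)
  have key : C.card ≤ (Finset.range 3).card := by
    refine Finset.card_le_card_of_injOn
      (fun s => if s ∣ Fintype.card F then 0 else Cfsg.Agent.H72.AdjOrth.ee (Fintype.card F) s) ?_ ?_
    · intro s hs
      have hs' : s ∈ C := hs
      change (if s ∣ Fintype.card F then 0 else _) ∈ (Finset.range 3 : Set ℕ)
      rw [Finset.coe_range, Set.mem_Iio]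
      split_ifs with h
      · norm_num
      · have := Cfsg.Agent.H72.AdjPSL.ee_le (hC.prime s hs') h (hC.dvd s hs')
        omega
    · intro s hs t ht hst
      have hs' : s ∈ C := hs
      have ht' : t ∈ C := ht
      change (if s ∣ Fintype.card F then 0 else _) = (if t ∣ Fintype.card F then 0 else _) at hst
      by_contra hne
      by_cases h1 : s ∣ Fintype.card F
      · by_cases h2 : t ∣ Fintype.card F
        · exact hne ((hqp s (hC.prime s hs') h1).trans (hqp t (hC.prime t ht') h2).symm)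
        · rw [if_pos h1, if_neg h2] at hst
          have := Cfsg.Agent.H72.AdjOrth.ee_pos (hC.prime t ht') h2
          omega
      · by_cases h2 : t ∣ Fintype.card F
        · rw [if_neg h1, if_pos h2] at hst
          have := Cfsg.Agent.H72.AdjOrth.ee_pos (hC.prime s hs') h1
          omega
        · rw [if_neg h1, if_neg h2] at hst
          have h4 := Cfsg.Agent.H72.AdjOrth.ee_pos (hC.prime s hs') h1
          have h5 := Cfsg.Agent.H72.AdjPSL.ee_le (hC.prime s hs') h1 (hC.dvd s hs')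
          refine hC.indep s hs' t ht' hne ?_
          by_cases h6 : Cfsg.Agent.H72.AdjOrth.ee (Fintype.card F) s = 1
          · have h7 := (Cfsg.Agent.H72.AdjPSL.ee_eq_one_iff (by omega)).1 h6
            have h8 := (Cfsg.Agent.H72.AdjPSL.ee_eq_one_iff (by omega)).1 (hst.symm.trans h6)
            have hco : Nat.Coprime s t := (Nat.coprime_primes (hC.prime s hs') (hC.prime t ht')).2 hne
            obtain ⟨A, hdet, hA1, hA2⟩ :=
              Cfsg.Agent.H72.AdjPSL.hasBlock_two (hco.mul_dvd_of_dvd_of_dvd h7 h8)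
            refine Cfsg.Agent.H72.AdjPSL.exists_order A hdet (N := s * t) ?_ _ dvd_rfl
            intro k c hk
            have h9 : c ^ 2 = 1 := by
              have := congrArg Matrix.det hk
              rw [Matrix.det_pow, hdet, one_pow, Matrix.det_smul, Matrix.det_one, mul_one,
                Fintype.card_fin] at this
              exact this.symm
            have h10 : A ^ (k * 2) = 1 := by
              rw [pow_mul, hk, smul_pow, one_pow, h9, one_smul]
            have h11 := hA2 _ h10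
            have h12 : Nat.Coprime (s * t) 2 := by
              rw [Nat.coprime_two_right]
              have := h3 s hs'
              have := h3 t ht'
              exact ((hC.prime s hs').odd_of_ne_two (by omega)).mul ((hC.prime t ht').odd_of_ne_two (by omega))
            exact h12.dvd_of_dvd_mul_right h11
          · have h7 : Cfsg.Agent.H72.AdjOrth.ee (Fintype.card F) s = 2 := by omega
            exact psl_adj_same (hC.prime s hs') (hC.prime t ht') hne (j := 2) le_rfl le_rfl h7 (hst.symm.trans h7)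
  rwa [Finset.card_range] at key

theorem big_psl {l : ℕ} (hF : Odd (Fintype.card F)) {C : Finset ℕ}
    (hC : IsCoc (Matrix.ProjectiveSpecialLinearGroup (Fin l) F) C) (h3 : ∀ p ∈ C, 3 < p) (h14 : 14 ≤ C.card)
    (hl : 2 ≤ l) :
    Big C.card (Matrix.ProjectiveSpecialLinearGroup (Fin l) F) := by
  classical
  -- small ranks
  have hl4 : 4 ≤ l ∧ C.card ≤ 1 + (l - l / 2) := by
    by_cases h4 : 4 ≤ l
    · exact ⟨h4, psl_coclique_gen hC h4⟩
    · exfalso
      obtain ⟨x, hx⟩ : C.Nonempty := by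
        rw [← Finset.card_pos]
        omega
      have h5 : l = 2 ∨ l = 3 := by omega
      rcases h5 with rfl | rfl
      · have := coc_psl_two hF hC h3
        omega
      · have := (Cfsg.Agent.H72.AdjPSL.card_coclique (F := F) le_rfl
          (fun r hr => ⟨hC.prime r hr, hC.dvd r hr⟩) hC.indep hx).1
        omega
  obtain ⟨φ, hφi, hφ⟩ := exists_phi (F := F) (a := l - 1) (b := 1) (n := l) (by omega)
  refine ⟨F, inferInstance, inferInstance, Fintype.card F, 1, l - 1, (pow_one _).symm, hF, one_lt_card,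
    Or.inl ⟨rfl, by omega⟩, (QuotientGroup.mk' _).comp (φ.comp (MonoidHom.inl _ _)), ?_⟩
  intro x hx
  have h1 : φ (x, 1) ∈ Subgroup.center (Matrix.SpecialLinearGroup (Fin l) F) := by
    have h2 : (QuotientGroup.mk (φ (x, 1)) : Matrix.SpecialLinearGroup (Fin l) F ⧸
      Subgroup.center (Matrix.SpecialLinearGroup (Fin l) F)) = 1 := hx
    exact (QuotientGroup.eq_one_iff _).1 h2
  obtain ⟨r, hr⟩ := center_scalar h1
  obtain ⟨h2, h3⟩ := hφ _ r hr
  have h4 : r = 1 := by
    have := congrFun (congrFun h3 0) 0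
    simpa using this.symm
  have h5 : x = 1 := by
    apply Subtype.ext
    change x.1 = _ at h2
    rw [h4, one_smul] at h2
    exact h2
  rw [h5, one_pow]

theorem big_psp {l : ℕ} (hF : Odd (Fintype.card F)) {C : Finset ℕ}
    (hC : IsCoc (Cfsg.PSp l F) C) (hl : 2 ≤ l) : Big C.card (Cfsg.PSp l F) := by
  classical
  have h1 := psp_coclique_half hC hl
  have h2 := labels_window (m := l) (a := l - l / 2) (by omega)
  have h3 := labels_window (m := l) (a := l / 2) (by omega)
  rw [show l - (l - l / 2) = l / 2 by omega] at h2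
  refine ⟨F, inferInstance, inferInstance, Fintype.card F, 1, l, (pow_one _).symm, hF, one_lt_card,
    Or.inl ⟨rfl, by omega⟩, (QuotientGroup.mk' _).comp (Cfsg.Agent.H376.WordEmb.leviSp l), ?_⟩
  intro x hx
  have h4 : Cfsg.Agent.H376.WordEmb.leviSp l x ∈ Subgroup.center (Matrix.symplecticGroup (Fin l) F) := by
    have h2 : (QuotientGroup.mk (Cfsg.Agent.H376.WordEmb.leviSp l x) : Matrix.symplecticGroup (Fin l) F ⧸
      Subgroup.center (Matrix.symplecticGroup (Fin l) F)) = 1 := hx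
    exact (QuotientGroup.eq_one_iff _).1 h2
  have h5 := Cfsg.Agent.H376.SpEmb.center_pow _ h4
  apply Cfsg.Agent.H376.WordEmb.leviSp_injective l
  rw [map_pow, h5, map_one]

end Cfsg.Agent.H621.LN
end

-- part: H621/LN/Orth
section
/-!
# `Big` for the orthogonal groups over fields of odd order (helper621, for S3457)
-/

set_option autoImplicit false

namespace Cfsg.Agent.H621.LN

open Matrix Cfsg Cfsg.Agent.H346.LN Cfsg.Agent.H376.Coc
open Cfsg.Agent.H72.AdjOrth Cfsg.Agent.H72.AdjCoc Cfsg.Agent.H621.TwoElt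
open Cfsg.Agent.H376.WordEmb

variable {F : Type} [Field F] [Fintype F]

seal _root_.Finset.sum _root_.dotProduct in
/-- the homomorphism from a perfect group to `PΩ` -/
theorem exists_hom_pomega {X : Type*} [Group X] {ι : Type} [Fintype ι] [DecidableEq ι] (Q : (ι → F) → F)
    (φ : X →* isometryGroup F Q) (hX : commutator X = ⊤)
    (hc : ∀ z : Omega F Q, z ∈ Subgroup.center (Omega F Q) →
      ∃ l : F, (((z : isometryGroup F Q) : GL ι F) : Matrix ι ι F) = l • 1)
    (h : ∀ (x : X) (l : F), ((φ x : GL ι F) : Matrix ι ι F) = l • 1 → x ^ 2 = 1) :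
    ∃ f : X →* POmega F Q, ∀ x, f x = 1 → x ^ 2 = 1 := by
  refine ⟨(QuotientGroup.mk' _).comp (Cfsg.Agent.H372.perfHom φ hX), fun x hx => ?_⟩
  have h1 : Cfsg.Agent.H372.perfHom φ hX x ∈ Subgroup.center (Omega F Q) := by
    have h2 : (QuotientGroup.mk (Cfsg.Agent.H372.perfHom φ hX x) : Omega F Q ⧸
      Subgroup.center (Omega F Q)) = 1 := hx
    exact (QuotientGroup.eq_one_iff _).1 h2
  obtain ⟨l, hl⟩ := hc _ h1
  exact h x l hl

theorem levi_scalar {m : ℕ} {x : Matrix.SpecialLinearGroup (Fin m) F} {r : F}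
    (h : leviMat m x = r • 1) : x ^ 2 = 1 := by
  have h1 : fromBlocks x.1 0 0 (x⁻¹).1ᵀ = r • (1 : Matrix (Fin m ⊕ Fin m) (Fin m ⊕ Fin m) F) := h
  obtain ⟨h2, h3⟩ := fromBlocks_eq_smul_one h1
  have h4 : (x⁻¹).1 = r • 1 := by
    have := congrArg Matrix.transpose h3
    rw [Matrix.transpose_transpose, Matrix.transpose_smul, Matrix.transpose_one] at this
    exact this
  have h5 : x = x⁻¹ := Subtype.ext (h2.trans h4.symm)
  rw [pow_two]
  nth_rewrite 2 [h5]
  exact mul_inv_cancel x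

theorem big_plus {l : ℕ} (hF : Odd (Fintype.card F)) {C : Finset ℕ}
    (hC : IsCoc (Cfsg.POmega F (Cfsg.quadFormPlus l F)) C) (h3 : ∀ p ∈ C, 3 < p) (h14 : 14 ≤ C.card)
    (hl : 4 ≤ l) : Big C.card (Cfsg.POmega F (Cfsg.quadFormPlus l F)) := by
  have h2 : 2 ∉ C := fun h => by have := h3 2 h; omega
  have hb : 4 * C.card ≤ 3 * l + 12 := by
    rcases plus_bound hl hC h2 with h | h <;> omega
  obtain ⟨f, hf⟩ := exists_hom_pomega (quadFormPlus l F) (toIso _ (leviMat l) (levi_plus' l))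
    (Cfsg.Agent.H372.sl_perfect (by omega)) (fun z hz => Cfsg.Agent.H708.RFam.center_plus F l (by omega) z hz)
    (fun x r hr => levi_scalar hr)
  exact ⟨F, inferInstance, inferInstance, Fintype.card F, 1, l, (pow_one _).symm, hF, one_lt_card,
    Or.inl ⟨rfl, hb⟩, f, hf⟩

theorem two_ne_zero_of_odd (hF : Odd (Fintype.card F)) : (2 : F) ≠ 0 := by
  intro h2
  have h3 : CharP F 2 := by
    obtain ⟨p, hp⟩ := CharP.exists F
    have hpp : p.Prime := CharP.char_is_prime F p
    have h4 : p ∣ 2 := (CharP.cast_eq_zero_iff F p 2).1 (by exact_mod_cast h2)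
    have h5 : p = 2 := (Nat.prime_dvd_prime_iff_eq hpp Nat.prime_two).1 h4
    rwa [h5] at hp
  obtain ⟨n, -, hn⟩ := FiniteField.card F 2
  rw [hn] at hF
  exact (Nat.not_odd_iff_even.2 ((Nat.even_pow.2 ⟨even_two, n.ne_zero⟩))) hF

theorem odd_bound {R : ℕ} (h2F : (2 : F) ≠ 0) (hR : 3 ≤ R) {C : Finset ℕ}
    (hC : IsCoc (Cfsg.POmega F (Cfsg.quadFormOdd R F)) C) (h2 : 2 ∉ C) :
    4 * C.card ≤ 3 * R + 6 ∨ C.card ≤ 8 := by
  classical
  by_cases hR12 : R ≤ 4
  · have h1 := odd_coclique' h2F hR (ρ := C) (fun r hr => ⟨hC.prime r hr, hC.dvd r hr⟩)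
      (fun r hr s hs hrs => hC.indep r hr s hs hrs)
    exact Or.inr (by omega)
  left
  by_cases h : ∃ x ∈ C, wO (Nat.card F) x ≤ R / 2
  · obtain ⟨x, hx, hxw⟩ := h
    have h1 := odd_coclique h2F hR (ρ := C) (fun r hr => ⟨hC.prime r hr, hC.dvd r hr⟩)
      (fun r hr s hs hrs => hC.indep r hr s hs hrs) hx (by omega)
    (clear * - hxw h1; solve | lia | omega)
  · push Not at h
    have h1 : C.card ≤ (cl (R / 2) R).card := by
      refine coc_top (q := Nat.card F) (w := R / 2)
        (adj := fun r s => ∃ z : Cfsg.POmega F (Cfsg.quadFormOdd R F), orderOf z = r * s)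
        (P := fun k => eta k ≤ R) hC.prime h2
        (fun s hs _ hsq => odd_class h2F hR (hC.prime s hs) hsq (hC.dvd s hs)) hC.indep
        (fun r s hr hs hr2 hs2 hrs hrq hsq h hk => odd_clq h2F hR hr hs hr2 hs2 hrs hrq hsq h hk)
        (by omega) h ?_
      intro k hk hk2
      rw [mem_cl]
      exact ⟨hk2, hk⟩
    have h3 := card_cl_le (R / 2) R
    (clear * - h1 h3; solve | lia | omega)

theorem big_odd {l : ℕ} (hF : Odd (Fintype.card F)) {C : Finset ℕ}
    (hC : IsCoc (Cfsg.POmega F (Cfsg.quadFormOdd l F)) C) (h3 : ∀ p ∈ C, 3 < p) (h14 : 14 ≤ C.card)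
    (hl : 3 ≤ l) : Big C.card (Cfsg.POmega F (Cfsg.quadFormOdd l F)) := by
  have h2 : 2 ∉ C := fun h => by have := h3 2 h; omega
  have h2F := two_ne_zero_of_odd hF
  have hb : 4 * C.card ≤ 3 * l + 12 := by
    rcases odd_bound h2F hl hC h2 with h | h <;> omega
  have hinv : ∀ (x : Matrix.SpecialLinearGroup (Fin l) F) (v : Unit ⊕ (Fin l ⊕ Fin l) → F),
      quadFormOdd l F (((blockR Unit (Fin l ⊕ Fin l)).comp (leviMat l)) x *ᵥ v) = quadFormOdd l F v := by
    intro x v
    change quadFormOdd l F (fromBlocks 1 0 0 (leviMat l x) *ᵥ v) = _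
    rw [fromBlocks_mulVec]
    have h := levi_plus' l x (v ∘ Sum.inr)
    simp only [quadFormPlus] at h
    simp only [quadFormOdd, Sum.elim_inl, Sum.elim_inr, Matrix.zero_mulVec, add_zero, zero_add,
      one_mulVec, h, Function.comp]
  obtain ⟨f, hf⟩ := exists_hom_pomega (quadFormOdd l F)
    (toIso _ ((blockR Unit (Fin l ⊕ Fin l)).comp (leviMat l)) hinv)
    (Cfsg.Agent.H372.sl_perfect (by omega))
    (fun z hz => Cfsg.Agent.H708.RFam.center_odd F h2F l (by omega) z hz)
    (fun x r hr => levi_scalar (r := r) (fromBlocks_eq_smul_one (A := (1 : Matrix Unit Unit F)) hr).2)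
  exact ⟨F, inferInstance, inferInstance, Fintype.card F, 1, l, (pow_one _).symm, hF, one_lt_card,
    Or.inl ⟨rfl, hb⟩, f, hf⟩

theorem big_minus {l : ℕ} (hF : Odd (Fintype.card F)) {a b : F}
    (hab : ∀ z₁ z₂ : F, z₁ ^ 2 + a * z₁ * z₂ + b * z₂ ^ 2 = 0 → z₁ = 0 ∧ z₂ = 0) {C : Finset ℕ}
    (hC : IsCoc (Cfsg.POmega F (Cfsg.quadFormMinus (l - 1) F a b)) C) (h3 : ∀ p ∈ C, 3 < p)
    (h14 : 14 ≤ C.card) (hl : 4 ≤ l) : Big C.card (Cfsg.POmega F (Cfsg.quadFormMinus (l - 1) F a b)) := by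
  have h2 : 2 ∉ C := fun h => by have := h3 2 h; omega
  have hb : 4 * C.card ≤ 3 * (l - 1) + 12 := by
    rcases minus_bound hl hab hC h2 with h | h <;> omega
  obtain ⟨m, hm⟩ : ∃ m, m = l - 1 := ⟨_, rfl⟩
  rw [← hm] at hb ⊢
  have hinv : ∀ (x : Matrix.SpecialLinearGroup (Fin m) F) (v : (Fin m ⊕ Fin m) ⊕ Fin 2 → F),
      quadFormMinus m F a b (((blockL (Fin 2) (Fin m ⊕ Fin m)).comp (leviMat m)) x *ᵥ v) =
        quadFormMinus m F a b v := by
    intro x v
    change quadFormMinus m F a b (fromBlocks (leviMat m x) 0 0 1 *ᵥ v) = _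
    rw [fromBlocks_mulVec]
    have h := levi_plus' m x (v ∘ Sum.inl)
    simp only [quadFormPlus] at h
    simp only [quadFormMinus, Sum.elim_inl, Sum.elim_inr, Matrix.zero_mulVec, add_zero, zero_add,
      one_mulVec, h, Function.comp]
  obtain ⟨f, hf⟩ := exists_hom_pomega (quadFormMinus m F a b)
    (toIso _ ((blockL (Fin 2) (Fin m ⊕ Fin m)).comp (leviMat m)) hinv)
    (Cfsg.Agent.H372.sl_perfect (by omega))
    (fun z hz => Cfsg.Agent.H708.RFam.center_minus F m (by omega) a b hab z hz)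
    (fun x r hr => levi_scalar (r := r) (fromBlocks_eq_smul_one (B := (1 : Matrix (Fin 2) (Fin 2) F)) hr).1)
  exact ⟨F, inferInstance, inferInstance, Fintype.card F, 1, m, (pow_one _).symm, hF, one_lt_card,
    Or.inl ⟨rfl, hb⟩, f, hf⟩

end Cfsg.Agent.H621.LN
end

-- part: H621/LN/Uni
section
/-!
# `Big` for `PSU_n(q)`, `q` odd (helper621, for S3457)
-/

set_option autoImplicit false

namespace Cfsg.Agent.H621.LN

open Matrix Cfsg Cfsg.Agent.H346.LN Cfsg.Agent.H376.Coc Cfsg.Agent.H186 Cfsg.Agent.H103.UniBlock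
open Cfsg.Agent.H72.AdjPSU

variable {F : Type} [Field F] [Fintype F] {q n : ℕ}

theorem psu_bound (hF : Fintype.card F = q ^ 2) (hn : 3 ≤ n) {C : Finset ℕ} (hC : IsCoc (Cfsg.PSU n F q) C)
    (h14 : 14 ≤ C.card) : C.card ≤ (n - 1) / 2 + 3 ∧ 13 ≤ n := by
  classical
  obtain ⟨x, hx⟩ : C.Nonempty := by
    rw [← Finset.card_pos]
    omega
  have hn13 : 13 ≤ n := by
    have := (card_coclique hF hn (fun r hr => ⟨hC.prime r hr, hC.dvd r hr⟩) hC.indep hx).1
    omega
  refine ⟨?_, hn13⟩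
  by_cases h : ∃ x ∈ C, wU q x ≤ n / 2
  · obtain ⟨x, hx, hxw⟩ := h
    have := (card_coclique hF hn (fun r hr => ⟨hC.prime r hr, hC.dvd r hr⟩) hC.indep hx).2.1
    omega
  · push Not at h
    have hw : ∀ s ∈ C, ¬ s ∣ q ∧ wU q s = nu q s := by
      intro s hs
      have h1 := h s hs
      rw [wU] at h1 ⊢
      split_ifs at h1 ⊢ with h2
      · omega
      · exact ⟨fun h3 => h2 (Or.inl h3), rfl⟩
    have key : C.card ≤ (Finset.Ioc (n / 2) n).card := by
      refine Finset.card_le_card_of_injOn (fun s => nu q s) ?_ ?_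
      · intro s hs
        have hs' : s ∈ C := hs
        have h1 := h s hs'
        rw [(hw s hs').2] at h1
        have h2 := nu_le hF (by omega) (hC.prime s hs') (hw s hs').1 (hC.dvd s hs')
        change nu q s ∈ (Finset.Ioc (n / 2) n : Set ℕ)
        rw [Finset.mem_coe, Finset.mem_Ioc]
        exact ⟨h1, h2⟩
      · intro s hs t ht hst
        have hs' : s ∈ C := hs
        have ht' : t ∈ C := ht
        by_contra hne
        exact hC.indep s hs' t ht' hne (adj_of_nu hF hn (hC.prime s hs') (hC.prime t ht') hne (hw s hs').1 hst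
          (nu_le hF (by omega) (hC.prime s hs') (hw s hs').1 (hC.dvd s hs')))
    rw [Nat.card_Ioc] at key
    omega

/-- `x ↦ diag(x, x^{-*}, 1)` -/
def rho (hF : Fintype.card F = q ^ 2) (k r : ℕ) : Matrix.SpecialLinearGroup (Fin k) F →*
    Matrix ((Fin k ⊕ Fin k) ⊕ Fin r) ((Fin k ⊕ Fin k) ⊕ Fin r) F where
  toFun x := fromBlocks (fromBlocks x.1 0 0 (st q (x⁻¹).1)) 0 0 1
  map_one' := by
    have h1 : ((1 : Matrix.SpecialLinearGroup (Fin k) F)⁻¹).1 = 1 := by
      rw [inv_one]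
      rfl
    rw [h1, st_one hF]
    change fromBlocks (fromBlocks (1 : Matrix (Fin k) (Fin k) F) 0 0 1) 0 0 1 = 1
    rw [fromBlocks_one, fromBlocks_one]
  map_mul' x y := by
    have h1 : ((x * y)⁻¹).1 = (y⁻¹).1 * (x⁻¹).1 := by
      rw [_root_.mul_inv_rev]
      rfl
    rw [h1, st_mul hF, fromBlocks_multiply, fromBlocks_multiply]
    change fromBlocks (fromBlocks (x.1 * y.1) 0 0 _) 0 0 1 = _
    simp only [Matrix.mul_zero, Matrix.zero_mul, add_zero, zero_add, Matrix.mul_one]

/-- the hyperbolic form -/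
def hyp (F : Type) [Field F] (k r : ℕ) : Matrix ((Fin k ⊕ Fin k) ⊕ Fin r) ((Fin k ⊕ Fin k) ⊕ Fin r) F :=
  fromBlocks (fromBlocks 0 1 1 0) 0 0 1

theorem hyp_mul_self (k r : ℕ) : hyp F k r * hyp F k r = 1 := by
  rw [hyp, fromBlocks_multiply, fromBlocks_multiply]
  simp only [Matrix.mul_zero, Matrix.zero_mul, add_zero, zero_add, Matrix.mul_one, fromBlocks_one]

theorem st_hyp (hF : Fintype.card F = q ^ 2) (k r : ℕ) : st q (hyp F k r) = hyp F k r := by
  have hq : q ≠ 0 := by
    rintro rfl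
    have := Fintype.one_lt_card (α := F)
    rw [hF] at this
    norm_num at this
  rw [hyp, st_fromBlocks hq, st_one hF]
  congr 1
  ext i j
  rcases i with i | i <;> rcases j with j | j <;> simp [st_apply, hq, Matrix.one_apply, eq_comm]

theorem st_rho (hF : Fintype.card F = q ^ 2) (k r : ℕ) (x : Matrix.SpecialLinearGroup (Fin k) F) :
    st q (rho hF k r x) * hyp F k r * rho hF k r x = hyp F k r := by
  have hq : q ≠ 0 := by
    rintro rfl
    have := Fintype.one_lt_card (α := F)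
    rw [hF] at this
    norm_num at this
  have h1 : st q x.1 * st q (x⁻¹).1 = 1 := by
    have h3 : (x⁻¹).1 * x.1 = 1 := congrArg Subtype.val (inv_mul_cancel x)
    rw [← st_mul hF, h3, st_one hF]
  have h2 : (x⁻¹).1 * x.1 = 1 := congrArg Subtype.val (inv_mul_cancel x)
  change st q (fromBlocks (fromBlocks x.1 0 0 (st q (x⁻¹).1)) 0 0 1) * hyp F k r *
    fromBlocks (fromBlocks x.1 0 0 (st q (x⁻¹).1)) 0 0 1 = hyp F k r
  rw [st_fromBlocks hq, st_fromBlocks hq, st_st hF, st_one hF, hyp]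
  simp only [fromBlocks_multiply, Matrix.mul_zero, Matrix.zero_mul, add_zero, zero_add, Matrix.mul_one, h1, h2]

theorem det_rho (hF : Fintype.card F = q ^ 2) (k r : ℕ) (x : Matrix.SpecialLinearGroup (Fin k) F) :
    (rho hF k r x).det = 1 := by
  change (fromBlocks (fromBlocks x.1 0 0 (st q (x⁻¹).1)) 0 0 1).det = 1
  rw [det_fromBlocks_zero₂₁, det_fromBlocks_zero₂₁, det_one, mul_one, det_st _ hF, x.2, (x⁻¹).2, one_pow, mul_one]

theorem exists_hom_psu (hF : Fintype.card F = q ^ 2) (hn : 3 ≤ n) {k r : ℕ} (hr : 1 ≤ r) (hkr : k + k + r = n) :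
    ∃ f : Matrix.SpecialLinearGroup (Fin k) F →* Cfsg.PSU n F q, ∀ x, f x = 1 → x ^ 2 = 1 := by
  classical
  let e : Fin n ≃ (Fin k ⊕ Fin k) ⊕ Fin r :=
    ((finCongr hkr.symm).trans finSumFinEquiv.symm).trans (Equiv.sumCongr finSumFinEquiv.symm (Equiv.refl _))
  let ρ : Matrix.SpecialLinearGroup (Fin k) F →* Matrix (Fin n) (Fin n) F :=
    { toFun := fun x => (rho hF k r x).submatrix e e
      map_one' := by rw [map_one, Matrix.submatrix_one_equiv]
      map_mul' := fun x y => by rw [map_mul, Matrix.submatrix_mul_equiv] }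
  let H : Matrix (Fin n) (Fin n) F := (hyp F k r).submatrix e e
  have hst : ∀ A : Matrix ((Fin k ⊕ Fin k) ⊕ Fin r) ((Fin k ⊕ Fin k) ⊕ Fin r) F,
      st q (A.submatrix e e) = (st q A).submatrix e e := fun A => rfl
  have hHst : st q H = H := by
    change st q ((hyp F k r).submatrix e e) = (hyp F k r).submatrix e e
    rw [hst, st_hyp hF]
  have hHH : H * H = 1 := by
    change (hyp F k r).submatrix e e * (hyp F k r).submatrix e e = 1
    rw [Matrix.submatrix_mul_equiv, hyp_mul_self, Matrix.submatrix_one_equiv]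
  have hHu : IsUnit H := ⟨⟨H, H, hHH, hHH⟩, rfl⟩
  have hρ : ∀ x, st q (ρ x) * H * ρ x = H := by
    intro x
    change st q ((rho hF k r x).submatrix e e) * (hyp F k r).submatrix e e * (rho hF k r x).submatrix e e =
      (hyp F k r).submatrix e e
    rw [hst, Matrix.submatrix_mul_equiv, Matrix.submatrix_mul_equiv, st_rho]
  have hdet : ∀ x, (ρ x).det = 1 := by
    intro x
    change ((rho hF k r x).submatrix e e).det = 1
    rw [Matrix.det_submatrix_equiv_self, det_rho]
  obtain ⟨y, -, ⟨y, rfl⟩, hy⟩ := exists_st_mul hF H hHu hHst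
  have hyi : (y : Matrix (Fin n) (Fin n) F) * ((y⁻¹ : (Matrix (Fin n) (Fin n) F)ˣ) : Matrix (Fin n) (Fin n) F) = 1 :=
    Units.mul_inv y
  have hiy : ((y⁻¹ : (Matrix (Fin n) (Fin n) F)ˣ) : Matrix (Fin n) (Fin n) F) * (y : Matrix (Fin n) (Fin n) F) = 1 :=
    Units.inv_mul y
  set Y : Matrix (Fin n) (Fin n) F := (y : Matrix (Fin n) (Fin n) F) with hY
  set Z : Matrix (Fin n) (Fin n) F := ((y⁻¹ : (Matrix (Fin n) (Fin n) F)ˣ) : Matrix (Fin n) (Fin n) F) with hZ
  let B : Matrix.SpecialLinearGroup (Fin k) F →* Matrix (Fin n) (Fin n) F :=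
    { toFun := fun x => Y * ρ x * Z
      map_one' := by rw [map_one, mul_one, hyi]
      map_mul' := fun x x' => by
        rw [map_mul]
        calc Y * (ρ x * ρ x') * Z = Y * ρ x * (1 * (ρ x' * Z)) := by rw [one_mul]; simp only [mul_assoc]
          _ = Y * ρ x * Z * (Y * ρ x' * Z) := by rw [← hiy]; simp only [mul_assoc] }
  have hB1 : ∀ x, st q (B x) * B x = 1 := by
    intro x
    change st q (Y * ρ x * Z) * (Y * ρ x * Z) = 1
    rw [st_mul hF, st_mul hF]
    calc st q Z * (st q (ρ x) * st q Y) * (Y * ρ x * Z) = st q Z * (st q (ρ x) * (st q Y * Y) * ρ x) * Z := by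
          simp only [mul_assoc]
      _ = st q Z * (st q Y * Y) * Z := by rw [hy, hρ]
      _ = st q (Y * Z) * (Y * Z) := by rw [st_mul hF]; simp only [mul_assoc]
      _ = 1 := by rw [hyi, st_one hF, one_mul]
  have hB2 : ∀ x, (B x).det = 1 := by
    intro x
    change (Y * ρ x * Z).det = 1
    rw [Matrix.det_mul, Matrix.det_mul, hdet, mul_one, ← Matrix.det_mul, hyi, Matrix.det_one]
  choose s hs using fun x => Cfsg.Agent.H152.mkSU hF (B x) (hB1 x) (hB2 x)
  let f : Matrix.SpecialLinearGroup (Fin k) F →* Cfsg.SU n F q :=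
    { toFun := s
      map_one' := by
        apply Subtype.ext
        apply Subtype.ext
        rw [hs, map_one]
        rfl
      map_mul' := fun x x' => by
        apply Subtype.ext
        apply Subtype.ext
        rw [hs, map_mul]
        change _ = (s x).1.1 * (s x').1.1
        rw [hs, hs] }
  refine ⟨(QuotientGroup.mk' _).comp f, fun x hx => ?_⟩
  have h1 : (QuotientGroup.mk (s x) : Cfsg.PSU n F q) ^ 1 = 1 := by
    rw [pow_one]
    exact hx
  obtain ⟨c, hc⟩ := Cfsg.Agent.H127.UnitRoots.scalar_of_psu_pow hF hn (s x) h1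
  rw [pow_one] at hc
  have h2 : B x = c • 1 := by
    rw [← hs x]
    exact hc
  have h3 : ρ x = c • 1 := by
    have h4 : Z * (Y * ρ x * Z) * Y = Z * (c • 1) * Y := by
      rw [← h2]
      rfl
    calc ρ x = (Z * Y) * ρ x * (Z * Y) := by rw [hiy, one_mul, mul_one]
      _ = Z * (Y * ρ x * Z) * Y := by simp only [mul_assoc]
      _ = Z * (c • 1) * Y := h4
      _ = c • 1 := by rw [Matrix.mul_smul, mul_one, Matrix.smul_mul, hiy]
  have h5 : rho hF k r x = c • 1 := by
    have h6 : (rho hF k r x).submatrix e e = c • 1 := h3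
    exact submatrix_eq_smul_one e.symm h6
  have h7 : fromBlocks (fromBlocks x.1 0 0 (st q (x⁻¹).1)) 0 0 (1 : Matrix (Fin r) (Fin r) F) = c • 1 := h5
  obtain ⟨h8, h9⟩ := Cfsg.Agent.H376.Coc.fromBlocks_eq_smul_one h7
  obtain ⟨h10, -⟩ := Cfsg.Agent.H376.Coc.fromBlocks_eq_smul_one h8
  have h11 : c = 1 := by
    have := congrFun (congrFun h9 ⟨0, hr⟩) ⟨0, hr⟩
    simpa using this.symm
  have h12 : x = 1 := by
    apply Subtype.ext
    rw [h10, h11, one_smul]
    rfl
  rw [h12, one_pow]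

theorem big_psu (hF : Fintype.card F = q ^ 2) (hq : Odd q) (hn : 3 ≤ n) {C : Finset ℕ}
    (hC : IsCoc (Cfsg.PSU n F q) C) (h14 : 14 ≤ C.card) : Big C.card (Cfsg.PSU n F q) := by
  obtain ⟨h1, h2⟩ := psu_bound hF hn hC h14
  obtain ⟨f, hf⟩ := exists_hom_psu hF hn (k := (n - 1) / 2) (r := n - 2 * ((n - 1) / 2)) (by omega) (by omega)
  refine ⟨F, inferInstance, inferInstance, q, 2, (n - 1) / 2, hF, hq, ?_, Or.inr ⟨rfl, h1⟩, f, hf⟩
  have := Fintype.one_lt_card (α := F)
  rw [hF] at this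
  by_contra hcon
  have h3 : q ≤ 1 := by omega
  have h4 : q ^ 2 ≤ 1 := by nlinarith only [hcon]
  omega

end Cfsg.Agent.H621.LN
end

-- part: H621/LN/Main
section
/-!
# Lie type in odd characteristic with a large coclique : a large `SL_k(E)` inside (helper621, for S3457)
-/

set_option autoImplicit false

namespace Cfsg.Agent.H621.LN

open Cfsg Cfsg.Agent.H346.LN Cfsg.Agent.H376.Coc

theorem odd_card_of_char {r : ℕ} (hr : r.Prime) (hr2 : r ≠ 2) (F : Type) [Field F] [Fintype F] [CharP F r] :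
    Odd (Fintype.card F) := by
  have : Fact r.Prime := ⟨hr⟩
  obtain ⟨n, -, hn⟩ := FiniteField.card F r
  rw [hn]
  exact (hr.odd_of_ne_two hr2).pow

/-- **Lie type in odd characteristic with a large coclique** -/
theorem big_of_coclique {S : Type*} [Group S] [Finite S] [IsSimpleGroup S] {r : ℕ} (hr : r.Prime) (hr2 : r ≠ 2)
    (hS : IsLieTypeChar r S) {C : Finset ℕ} (hC : Cfsg.Agent.H376.Coc.IsCoc S C) (h3 : ∀ p ∈ C, 3 < p)
    (h14 : 14 ≤ C.card) : Cfsg.Agent.H346.LN.Big C.card S := by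
  have hexc : ∀ h : Cfsg.Agent.H168.ExcCoc.IsExc S, False := fun h => by
    have := Cfsg.Agent.H168.ExcCoc.exc_coc_big h hC h3
    omega
  rcases hS with h | h | h | h | h | h | h | h | h | h | h
  · obtain ⟨F, _, _, hc, n, hn, -, ⟨e⟩⟩ := h
    exact Big.congr e.symm (big_psl (odd_card_of_char hr hr2 F) (hC.congr e) h3 h14 hn)
  · obtain ⟨F, _, _, hc, n, hn, -, ⟨e⟩⟩ := h
    exact Big.congr e.symm (big_psp (odd_card_of_char hr hr2 F) (hC.congr e) hn)
  · obtain ⟨F, _, _, hc, n, q, hF, hn, -, ⟨e⟩⟩ := h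
    have h1 := odd_card_of_char hr hr2 F
    rw [hF] at h1
    exact Big.congr e.symm (big_psu hF (Nat.Odd.of_mul_left (by rwa [pow_two] at h1)) hn (hC.congr e) h14)
  · obtain ⟨F, _, _, hc, n, hn, -, ⟨e⟩⟩ := h
    exact Big.congr e.symm (big_odd (odd_card_of_char hr hr2 F) (hC.congr e) h3 h14 hn)
  · obtain ⟨F, _, _, hc, n, hn, ⟨e⟩⟩ := h
    exact Big.congr e.symm (big_plus (odd_card_of_char hr hr2 F) (hC.congr e) h3 h14 hn)
  · obtain ⟨F, _, _, hc, n, a, b, hn, hab, ⟨e⟩⟩ := h
    exact Big.congr e.symm (big_minus (odd_card_of_char hr hr2 F) hab (hC.congr e) h3 h14 hn)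
  · exfalso
    obtain ⟨F, i1, i2, hc, h | h | h | h | h⟩ := h
    · exact hexc (Or.inl ⟨F, i1, i2, h⟩)
    · exact hexc (Or.inr (Or.inl ⟨F, i1, i2, h⟩))
    · exact hexc (Or.inr (Or.inr (Or.inl ⟨F, i1, i2, h⟩)))
    · exact hexc (Or.inr (Or.inr (Or.inr (Or.inl ⟨F, i1, i2, h⟩))))
    · exact hexc (Or.inr (Or.inr (Or.inr (Or.inr (Or.inl ⟨F, i1, i2, h⟩)))))
  · exfalso
    obtain ⟨K, i1, i2, hc, q, hq, h | h⟩ := h
    · exact hexc (Or.inr (Or.inr (Or.inr (Or.inr (Or.inr (Or.inl ⟨K, i1, i2, q, hq, h.1, h.2⟩))))))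
    · exact hexc (Or.inr (Or.inr (Or.inr (Or.inr (Or.inr (Or.inr (Or.inl ⟨K, i1, i2, q, hq, h.1, h.2⟩)))))))
  · exact absurd h.1 hr2
  · exact absurd h.1 hr2
  · exfalso
    exact hexc (Or.inr (Or.inr (Or.inr (Or.inr (Or.inr (Or.inr (Or.inr (Or.inr (Or.inl h.2)))))))))

end Cfsg.Agent.H621.LN
end

private theorem dce_2578cc0ec0f7 : _root_.True := by
  try have : _root_.True := by simp only [_root_.Cfsg.Agent.H621.LN.hyp.eq_1]
  exact _root_.True.intro
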